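import Cfsg.Agent.OD.Pre
import Cfsg.Agent.H6.Top2
import Cfsg.Agent.H6.O7A.D0
set_option autoImplicit false
set_option maxRecDepth 100000
set_option Elab.async false
set_option linter.all false
namespace CfH6.O7A
open CfH6 MulAction
noncomputable def n0_0 : Net := mkNet (nat_lit 384) [(nat_lit 192, k0), (nat_lit 96, k1), (nat_lit 48, k2), (nat_lit 24, k3), (nat_lit 12, k4), (nat_lit 6, k5), (nat_lit 3, k6)] [(k7, nat_lit 1), (k8, nat_lit 1), (k9, nat_lit 1)]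
noncomputable def n0_1 : Net := mkNet (nat_lit 384) [(nat_lit 192, k10), (nat_lit 96, k11), (nat_lit 48, k12), (nat_lit 24, k13), (nat_lit 12, k14), (nat_lit 6, k15), (nat_lit 3, k16)] [(k17, nat_lit 1), (k18, nat_lit 1), (k19, nat_lit 1)]
noncomputable def n0_2 : Net := mkNet (nat_lit 384) [(nat_lit 192, k20), (nat_lit 96, k21), (nat_lit 48, k22), (nat_lit 24, k23), (nat_lit 12, k24), (nat_lit 6, k25), (nat_lit 3, k26)] [(k27, nat_lit 1), (k28, nat_lit 1), (k29, nat_lit 1)]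
noncomputable def n0_3 : Net := mkNet (nat_lit 384) [(nat_lit 192, k30), (nat_lit 96, k31), (nat_lit 48, k32), (nat_lit 24, k33), (nat_lit 12, k34), (nat_lit 6, k35), (nat_lit 3, k36)] [(k37, nat_lit 1), (k38, nat_lit 1), (k39, nat_lit 1)]
noncomputable def n0_4 : Net := mkNet (nat_lit 384) [(nat_lit 192, k40), (nat_lit 96, k41), (nat_lit 48, k42), (nat_lit 24, k43), (nat_lit 12, k44), (nat_lit 6, k45), (nat_lit 3, k46)] [(k47, nat_lit 1), (k48, nat_lit 1), (k49, nat_lit 1)]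
noncomputable def n0_5 : Net := mkNet (nat_lit 384) [(nat_lit 192, k50), (nat_lit 96, k51), (nat_lit 48, k52), (nat_lit 24, k53), (nat_lit 12, k54), (nat_lit 6, k55), (nat_lit 3, k56)] [(k57, nat_lit 1), (k58, nat_lit 1), (k59, nat_lit 1)]
noncomputable def n0_6 : Net := mkNet (nat_lit 384) [(nat_lit 192, k60), (nat_lit 96, k61), (nat_lit 48, k62), (nat_lit 24, k63), (nat_lit 12, k64), (nat_lit 6, k65), (nat_lit 3, k66)] [(k67, nat_lit 1), (k68, nat_lit 1), (k69, nat_lit 1)]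
noncomputable def n0_7 : Net := mkNet (nat_lit 384) [(nat_lit 192, k70), (nat_lit 96, k71), (nat_lit 48, k72), (nat_lit 24, k73), (nat_lit 12, k74), (nat_lit 6, k75), (nat_lit 3, k76)] [(k77, nat_lit 1), (k78, nat_lit 1), (k79, nat_lit 1)]
noncomputable def n2_0 : Net := mkNet (nat_lit 48) [(nat_lit 24, (nat_lit 0x619240619240)), (nat_lit 12, (nat_lit 0x23e23e150150)), (nat_lit 6, (nat_lit 0x618208820100)), (nat_lit 3, (nat_lit 0x10488900000))] [((nat_lit 0x209040048200), nat_lit 1), ((nat_lit 0x92412480000), nat_lit 1), ((nat_lit 0x9000040000), nat_lit 1)]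
noncomputable def n2_1 : Net := mkNet (nat_lit 48) [(nat_lit 24, (nat_lit 0x200000200000)), (nat_lit 12, (nat_lit 0xa00a00000000)), (nat_lit 6, (nat_lit 0x820544000820)), (nat_lit 3, (nat_lit 0x900834200))] [((nat_lit 0x41208001008), nat_lit 1), ((nat_lit 0x10412002480), nat_lit 1), ((nat_lit 0x208001000), nat_lit 1)]
noncomputable def n2_2 : Net := mkNet (nat_lit 48) [(nat_lit 24, (nat_lit 0x5a6e105a6e10)), (nat_lit 12, (nat_lit 0x581480fc0ec0)), (nat_lit 6, (nat_lit 0xb2c71c492208)), (nat_lit 3, (nat_lit 0x41249c024424))] [((nat_lit 0x209041240208), nat_lit 1), ((nat_lit 0x402012410410), nat_lit 1), ((nat_lit 0x201008200208), nat_lit 1)]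
noncomputable def n2_3 : Net := mkNet (nat_lit 48) [(nat_lit 24, (nat_lit 0x200000200000)), (nat_lit 12, (nat_lit 0x200200620620)), (nat_lit 6, (nat_lit 0xdf0200608e38)), (nat_lit 3, (nat_lit 0x4b202ce00))] [((nat_lit 0x208041000040), nat_lit 1), ((nat_lit 0x400000002480), nat_lit 1), ((nat_lit 0x200000000200), nat_lit 1)]
noncomputable def n2_4 : Net := mkNet (nat_lit 48) [(nat_lit 24, (nat_lit 0x628200628200)), (nat_lit 12, (nat_lit 0x3803803c03c0)), (nat_lit 6, (nat_lit 0x924c306d0400)), (nat_lit 3, (nat_lit 0x424938900000))] [((nat_lit 0x200240000008), nat_lit 1), ((nat_lit 0x410092410010), nat_lit 1), ((nat_lit 0x200040000008), nat_lit 1)]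
noncomputable def n2_5 : Net := mkNet (nat_lit 48) [(nat_lit 24, (nat_lit 0xfe025cfe021c)), (nat_lit 12, (nat_lit 0x119734090090)), (nat_lit 6, (nat_lit 0x92cb24000000)), (nat_lit 3, (nat_lit 0xcb8588912024))] [((nat_lit 0x200200041008), nat_lit 1), ((nat_lit 0x480482400090), nat_lit 1), ((nat_lit 0x200200000008), nat_lit 1)]
noncomputable def n3_0 : Net := mkNet (nat_lit 20) [(nat_lit 10, (nat_lit 0x29024)), (nat_lit 5, (nat_lit 0x4a018))] [((nat_lit 0x28084), nat_lit 1), ((nat_lit 0x10140), nat_lit 1), ((nat_lit 0x20080), nat_lit 1)]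
noncomputable def n3_1 : Net := mkNet (nat_lit 20) [(nat_lit 10, (nat_lit 0x84210)), (nat_lit 5, (nat_lit 0xb5800))] [((nat_lit 0x20400), nat_lit 1), ((nat_lit 0x42840), nat_lit 1), ((nat_lit 0x214a0), nat_lit 1), ((nat_lit 0x2840), nat_lit 1), ((nat_lit 0x400), nat_lit 1)]
noncomputable def n4_0 : Net := mkNet (nat_lit 16) [(nat_lit 8, (nat_lit 0x4040)), (nat_lit 4, (nat_lit 0x2200)), (nat_lit 2, (nat_lit 0x4e20))] [((nat_lit 0x1410), nat_lit 1)]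
noncomputable def n4_1 : Net := mkNet (nat_lit 16) [(nat_lit 8, (nat_lit 0xc4c4)), (nat_lit 4, (nat_lit 0xfc44)), (nat_lit 2, (nat_lit 0xc40))] [((nat_lit 0x110), nat_lit 1)]
noncomputable def n4_2 : Net := mkNet (nat_lit 16) [(nat_lit 8, (nat_lit 0x5040)), (nat_lit 4, (nat_lit 0x6600)), (nat_lit 2, (nat_lit 0xa480))] [((nat_lit 0x4000), nat_lit 1)]
noncomputable def n5_0 : Net := mkNet (nat_lit 12) [(nat_lit 6, (nat_lit 0x820)), (nat_lit 3, (nat_lit 0xc00))] []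
noncomputable def n5_1 : Net := mkNet (nat_lit 12) [(nat_lit 6, (nat_lit 0x820)), (nat_lit 3, (nat_lit 0xb00))] [((nat_lit 0x40), nat_lit 1), ((nat_lit 0x480), nat_lit 1), ((nat_lit 0x200), nat_lit 1)]
noncomputable def n6_0 : Net := mkNet (nat_lit 8) [(nat_lit 4, (nat_lit 0)), (nat_lit 2, (nat_lit 0))] [((nat_lit 0x40), nat_lit 1)]
noncomputable def nets0 : List Net := [n0_0, n0_1, n0_2, n0_3, n0_4, n0_5, n0_6, n0_7]
noncomputable def nets1 : List Net := [n0_0, n0_1, n0_2, n0_3, n0_4, n0_6, n0_7]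
def ws1 : List (List ℕ) := [[0],
  [1],
  [2],
  [3],
  [4],
  [6],
  [7]]
noncomputable def nets2 : List Net := [n2_0, n2_1, n2_2, n2_3, n2_4, n2_5]
def ws2 : List (List ℕ) := [[0],
  [1],
  [2],
  [3],
  [5],
  [6]]
noncomputable def nets3 : List Net := [n3_0, n3_1]
def ws3 : List (List ℕ) := [[2, 1, 3, 5, 2, 1],
  [2, 3, 4, 0, 2]]
noncomputable def nets4 : List Net := [n4_0, n4_1, n4_2]
def ws4 : List (List ℕ) := [[0, 0, 0, 1, 0, 0, 1, 0, 0, 0, 1, 0, 1, 0],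
  [0, 1, 0, 0],
  [1]]
noncomputable def nets5 : List Net := [n5_0, n5_1]
def ws5 : List (List ℕ) := [[2, 2, 1, 0, 0],
  [0, 2, 0]]
noncomputable def nets6 : List Net := [n6_0]
def ws6 : List (List ℕ) := [[0, 0, 0, 1, 1]]
def sig : List (List ℕ) := [[0],
  [1],
  [2],
  [3],
  [4],
  [5],
  [6],
  [7]]
def eqs0 : List (List ℕ × List ℕ) := [([0, 0], []),
  ([1, 1], []),
  ([2, 2], []),
  ([3, 3], []),
  ([4, 4], []),
  ([5, 5], []),
  ([6, 6], []),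
  ([7, 7], []),
  ([0, 1, 0], [1, 0, 1]),
  ([0, 2], [2, 0]),
  ([0, 3], [3, 0]),
  ([0, 4], [4, 0]),
  ([0, 5], [5, 0]),
  ([0, 6], [6, 0]),
  ([0, 7], [7, 0]),
  ([1, 2, 1], [2, 1, 2]),
  ([1, 3], [3, 1]),
  ([1, 4], [4, 1]),
  ([1, 5], [5, 1]),
  ([1, 6], [6, 1]),
  ([1, 7], [7, 1]),
  ([2, 3, 2], [3, 2, 3]),
  ([2, 4], [4, 2]),
  ([2, 5], [5, 2]),
  ([2, 6, 2], [6, 2, 6]),
  ([2, 7], [7, 2]),
  ([3, 4, 3], [4, 3, 4]),
  ([3, 5], [5, 3]),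
  ([3, 6], [6, 3]),
  ([3, 7], [7, 3]),
  ([4, 5, 4], [5, 4, 5]),
  ([4, 6], [6, 4]),
  ([4, 7], [7, 4]),
  ([5, 6], [6, 5]),
  ([5, 7], [7, 5]),
  ([6, 7, 6], [7, 6, 7]),
  ([2, 1, 0, 2, 3, 4, 2, 6, 7, 2, 1, 0, 2, 3, 4, 2, 6, 7, 2, 1, 0, 2, 3, 4, 2, 6, 7, 2, 1, 0, 2, 3, 4, 2, 6, 7, 2, 1, 0, 2, 3, 4, 2, 6, 7], [7, 6, 2, 4, 3, 2, 0, 1, 2, 7, 6, 2, 4, 3, 2, 0, 1, 2, 7, 6, 2, 4, 3, 2, 0, 1, 2, 7, 6, 2, 4, 3, 2, 0, 1, 2, 7, 6, 2, 4, 3, 2, 0, 1, 2]),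
  ([0, 1, 2, 3, 4, 5, 6, 0, 1, 2, 3, 4, 5, 6, 0, 1, 2, 3, 4, 5, 6, 0, 1, 2, 3, 4, 5, 6, 0, 1, 2, 3], [6, 5, 4, 3, 2, 1, 0, 6, 5, 4, 3, 2, 1, 0, 6, 5, 4, 3, 2, 1, 0, 6, 5, 4, 3, 2, 1, 0, 6, 5, 4])]
def eqs : List (List ℕ × List ℕ) := eqs0
def lU : List (ℕ × ℕ) := [(0, 11), (12, 2), (16, 2), (20, 27), (48, 322)]
noncomputable def U : ℕ := ivls lU
def l1 : List (ℕ × ℕ) := [(1, 1), (48, 242)]
noncomputable def S1 : ℕ := ivls l1
def w1 : List ℕ := [5]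
def l2 : List (ℕ × ℕ) := [(2, 9), (12, 2), (16, 2), (20, 27), (290, 80)]
noncomputable def S2 : ℕ := ivls l2
def w2 : List ℕ := [5, 4, 3, 2, 6, 7, 1, 2, 6, 0, 1, 2, 3, 4, 5]
noncomputable def J : List (List ℕ × ℕ × ℕ) := [(w1, 1, S1), (w2, 290, S2)]
def lBig : List (ℕ × ℕ) := [(1, 1), (48, 242)]
noncomputable def J2 : List (List ℕ × ℕ × ℕ) := [([5, 4, 3, 6, 2, 3, 0, 3, 0], 1, S1)]
noncomputable def J1 : List (List ℕ × ℕ × ℕ) := [([0], 1, S1)]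
def ex : List (List ℕ) := [[0, 3, 4, 2, 7, 5, 1, 6]]
def bs' : List ℕ := [0, 1, 2, 3, 4, 5, 6]
end CfH6.O7A
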